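import Cfsg.Agent.Lib.Components.Fitting
import Mathlib.GroupTheory.IndexNormal
import Mathlib.GroupTheory.GroupAction.ConjAct

/-!
# A bound in terms of the centralizer of an involutory automorphism

A finite group without nontrivial nilpotent normal subgroups is bounded in terms of the number of
fixed points of an involutory automorphism.
-/

set_option autoImplicit false

namespace Cfsg.Agent.Lib.InvertedBound

universe u

open Subgroup in
/-- Brauer–Fowler: some nontrivial element has small class. -/
theorem exists_small_class {H : Type u} [Group H] [Finite H] [Nontrivial H] (β : MulAut H)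
    (hβ : β * β = 1) :
    ∃ u : H, u ≠ 1 ∧ (centralizer ({u} : Set H)).index ≤ 2 * Nat.card {h : H // β h = h} ^ 2 := by
  classical
  haveI := Fintype.ofFinite H
  by_contra hcon
  push Not at hcon
  set c := Nat.card {h : H // β h = h} with hc
  have hc1 : 0 < c := by
    haveI : Nonempty {h : H // β h = h} := ⟨⟨1, map_one β⟩⟩
    exact Nat.card_pos
  have hββ : ∀ h, β (β h) = h := fun h => DFunLike.congr_fun hβ h
  let J : Finset H := Finset.univ.image fun g : H => g * (β g)⁻¹
  have hJinv : ∀ x ∈ J, β x = x⁻¹ := by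
    intro x hx
    obtain ⟨g, -, rfl⟩ := Finset.mem_image.mp hx
    rw [map_mul, map_inv, hββ, mul_inv_rev, inv_inv]
  have hH : Nat.card H ≤ c * J.card := by
    rw [Nat.card_eq_fintype_card, ← Finset.card_univ]
    refine Finset.card_le_mul_card_image _ _ fun j hj => ?_
    obtain ⟨g, -, hg⟩ := Finset.mem_image.mp hj
    rw [hc, Nat.card_eq_fintype_card, Fintype.card_subtype]
    refine Finset.card_le_card_of_injOn (fun a => g⁻¹ * a) ?_ fun a _ b _ h => mul_left_cancel h
    intro a ha
    have ha' : a * (β a)⁻¹ = g * (β g)⁻¹ := by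
      rw [hg]; exact (Finset.mem_filter.mp ha).2
    simp only [Finset.coe_filter, Finset.mem_univ, true_and, Set.mem_setOf_eq, map_mul, map_inv]
    have h2 : a = g * ((β g)⁻¹ * β a) := by rw [← mul_assoc, ← ha', inv_mul_cancel_right]
    exact eq_inv_mul_iff_mul_eq.mpr h2.symm
  set N := J.card with hN
  -- count pairs by their quotients
  have hcount : (2 * c ^ 2 + 1) * (N * N) ≤ (2 * c ^ 2 + 1) * N + Nat.card H * Nat.card H := by
    have h1 : N * N = ∑ u : H, ((J ×ˢ J).filter fun x => x.1 * x.2⁻¹ = u).card := by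
      rw [hN, ← Finset.card_product]
      exact Finset.card_eq_sum_card_fiberwise fun _ _ => Finset.mem_univ _
    rw [h1, ← Finset.sum_erase_add _ _ (Finset.mem_univ (1 : H)), mul_add, add_comm]
    refine add_le_add (Nat.mul_le_mul_left _ ?_) ?_
    · refine Finset.card_le_card_of_injOn Prod.fst (fun x hx => (Finset.mem_product.mp (Finset.mem_filter.mp hx).1).1) ?_
      intro x hx y hy h
      have hx' := mul_inv_eq_one.mp (Finset.mem_filter.mp hx).2
      have hy' := mul_inv_eq_one.mp (Finset.mem_filter.mp hy).2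
      exact Prod.ext h (hx'.symm.trans (h.trans hy'))
    · rw [Finset.mul_sum]
      refine (Finset.sum_le_card_nsmul _ _ (Nat.card H) fun u hu => ?_).trans ?_
      · have hu1 : u ≠ 1 := (Finset.mem_erase.mp hu).1
        set L := centralizer ({u} : Set H)
        have h2 : ((J ×ˢ J).filter fun x => x.1 * x.2⁻¹ = u).card ≤ Nat.card L := by
          rcases Finset.eq_empty_or_nonempty ((J ×ˢ J).filter fun x => x.1 * x.2⁻¹ = u) with he | ⟨z, hz⟩
          · rw [he]; exact Nat.zero_le _
          have key : ∀ x ∈ (J ×ˢ J).filter (fun x => x.1 * x.2⁻¹ = u), x.1⁻¹ * u * x.1 = (β u)⁻¹ := by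
            intro x hx
            obtain ⟨hm, he⟩ := Finset.mem_filter.mp hx
            obtain ⟨ha, hb⟩ := Finset.mem_product.mp hm
            rw [← he, map_mul, map_inv, hJinv _ ha, hJinv _ hb]
            group
          rw [show Nat.card L = (Finset.univ.filter fun y => y ∈ L).card by
            rw [Nat.card_eq_fintype_card, Fintype.card_subtype]]
          refine Finset.card_le_card_of_injOn (fun x => x.1 * z.1⁻¹) (fun x hx => ?_) fun x hx y hy h => ?_
          · simp only [Finset.coe_filter, Finset.mem_univ, true_and, Set.mem_setOf_eq]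
            refine mem_centralizer_singleton_iff.mpr ?_
            have h3 := (key x hx).trans (key z hz).symm
            calc x.1 * z.1⁻¹ * u = x.1 * (z.1⁻¹ * u * z.1) * z.1⁻¹ := by group
              _ = x.1 * (x.1⁻¹ * u * x.1) * z.1⁻¹ := by rw [h3]
              _ = u * (x.1 * z.1⁻¹) := by group
          · have h' : x.1 = y.1 := mul_right_cancel h
            have h4 := (Finset.mem_filter.mp hx).2.trans (Finset.mem_filter.mp hy).2.symm
            rw [h'] at h4
            exact Prod.ext h' (inv_injective (mul_left_cancel h4))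
        calc (2 * c ^ 2 + 1) * _ ≤ L.index * Nat.card L := Nat.mul_le_mul (hcon u hu1) h2
          _ = Nat.card H := L.index_mul_card
      · rw [smul_eq_mul, Nat.card_eq_fintype_card]
        exact Nat.mul_le_mul_right _ ((Finset.card_erase_le).trans Finset.card_univ.le)
  have hsq : Nat.card H * Nat.card H ≤ c ^ 2 * (N * N) := by
    calc _ ≤ (c * N) * (c * N) := Nat.mul_le_mul hH hH
      _ = _ := by ring
  have hN1 : N ≤ 1 := by nlinarith
  obtain ⟨u, hu⟩ := exists_ne (1 : H)
  have h5 := hcon u hu
  have h6 : (centralizer ({u} : Set H)).index ≤ Nat.card H :=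
    Nat.le_of_dvd Nat.card_pos (Subgroup.index_dvd_card _)
  nlinarith

/-- Groups without nilpotent normal subgroups and with few fixed points of an involutory
automorphism are bounded. -/
theorem exists_bound_of_fitting_bot : ∀ c : ℕ, ∃ B : ℕ, ∀ (H : Type u) [Group H] [Finite H]
    (β : MulAut H), β * β = 1 → Cfsg.fittingSubgroup H = ⊥ →
      Nat.card {h : H // β h = h} ≤ c → Nat.card H ≤ B := by
  intro c
  induction c using Nat.strong_induction_on with
  | _ c ih =>
  classical
  choose B hB using ih
  set Bp := (∑ i : Fin c, B i.1 i.2) + 1 with hBp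
  set E := (2 * c ^ 2).factorial * (2 * c ^ 2).factorial with hE
  refine ⟨Bp * E ^ E, ?_⟩
  intro H _ _ β hβ hF hc
  have hE1 : 1 ≤ E ^ E := Nat.one_le_pow _ _ (Nat.mul_pos (Nat.factorial_pos _) (Nat.factorial_pos _))
  rcases subsingleton_or_nontrivial H with hs | hs
  · rw [Nat.card_unique]
    exact Nat.one_le_iff_ne_zero.mpr (by positivity)
  have hab : ∀ N : Subgroup H, N.Normal → Group.IsNilpotent N → N = ⊥ := fun N hN hn =>
    eq_bot_iff.mpr (hF ▸ Components.le_fittingSubgroup hN hn)
  have hcomm : ∀ N : Subgroup H, N.Normal → (∀ a ∈ N, ∀ b ∈ N, a * b = b * a) → N = ⊥ := by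
    intro N hN h
    refine hab N hN ?_
    letI : CommGroup N := { (inferInstance : Group N) with mul_comm := fun a b => Subtype.ext (h a a.2 b b.2) }
    infer_instance
  obtain ⟨u, hu, hidx⟩ := exists_small_class β hβ
  set L := Subgroup.centralizer ({u} : Set H)
  set M := Subgroup.normalClosure ({u} : Set H) with hM
  set D := L.normalCore with hD
  have hMn : M.Normal := Subgroup.normalClosure_normal
  have hMD : M ≤ Subgroup.centralizer (D : Set H) := by
    haveI : D.Normal := inferInstance
    haveI : (Subgroup.centralizer (D : Set H)).Normal := inferInstance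
    refine Subgroup.normalClosure_le_normal (Set.singleton_subset_iff.mpr ?_)
    rw [SetLike.mem_coe, Subgroup.mem_centralizer_iff]
    intro d hd
    exact Subgroup.mem_centralizer_singleton_iff.mp (Subgroup.normalCore_le L hd)
  have hMD' : M ⊓ D = ⊥ := hcomm _ inferInstance fun a ha b hb =>
    (Subgroup.mem_centralizer_iff.mp (hMD (Subgroup.mem_inf.mp ha).1) b (Subgroup.mem_inf.mp hb).2).symm
  have hMcard : Nat.card M ≤ (2 * c ^ 2).factorial := by
    have h1 : Nat.card M ≤ D.index := by
      have h2 : Nat.card M = D.relIndex M := by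
        rw [← Subgroup.inf_relIndex_right, inf_comm, hMD', Subgroup.relIndex_bot_left]
      rw [h2, ← Subgroup.relIndex_top_right]
      exact Subgroup.relIndex_le_of_le_right le_top Subgroup.index_ne_zero_of_finite
    refine h1.trans (le_trans ?_ (Nat.factorial_le ((hidx.trans (by gcongr)))))
    rw [hD, Subgroup.normalCore_eq_ker, Subgroup.index_ker, Subgroup.index_eq_card, ← Nat.card_perm]
    exact Subgroup.card_le_card_group _
  set M2 := M ⊔ M.map β.toMonoidHom with hM2
  have hMβn : (M.map β.toMonoidHom).Normal := hMn.map _ β.surjective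
  haveI hM2n : M2.Normal := Subgroup.sup_normal _ _
  have hM2card : Nat.card M2 ≤ E := by
    refine (Nat.le_of_dvd (Nat.mul_pos Nat.card_pos Nat.card_pos) (Components.card_sup_dvd _ _)).trans ?_
    rw [Subgroup.card_map_of_injective (show Function.Injective β.toMonoidHom from β.injective)]
    exact Nat.mul_le_mul hMcard hMcard
  have hM2inv : ∀ x ∈ M2, β x ∈ M2 := by
    intro x hx
    have h1 : M2.map β.toMonoidHom = M2 := by
      rw [hM2, Subgroup.map_sup, Subgroup.map_map, sup_comm]
      congr 1
      have : (β.toMonoidHom.comp β.toMonoidHom) = MonoidHom.id H :=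
        MonoidHom.ext fun h => DFunLike.congr_fun hβ h
      rw [this, Subgroup.map_id]
    rw [← h1]; exact ⟨x, hx, rfl⟩
  set C := Subgroup.centralizer (M2 : Set H) with hC
  haveI hCn : C.Normal := inferInstance
  have hCM : C ⊓ M2 = ⊥ := hcomm _ inferInstance fun a ha b hb =>
    (Subgroup.mem_centralizer_iff.mp (Subgroup.mem_inf.mp ha).1 b (Subgroup.mem_inf.mp hb).2).symm
  have hββ : ∀ h, β (β h) = h := fun h => DFunLike.congr_fun hβ h
  have hCinv : ∀ x ∈ C, β x ∈ C := by
    intro x hx
    rw [hC, Subgroup.mem_centralizer_iff]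
    intro y hy
    rw [← hββ y, ← map_mul, ← map_mul, Subgroup.mem_centralizer_iff.mp hx (β y) (hM2inv y hy)]
  let βC : MulAut C :=
    { toFun := fun x => ⟨β x, hCinv x x.2⟩
      invFun := fun x => ⟨β x, hCinv x x.2⟩
      left_inv := fun x => Subtype.ext (hββ x)
      right_inv := fun x => Subtype.ext (hββ x)
      map_mul' := fun x y => Subtype.ext (map_mul β (x : H) y) }
  -- a nontrivial fixed point in `M2`
  obtain ⟨z, hz, hz1, hzfix⟩ : ∃ z ∈ M2, z ≠ 1 ∧ β z = z := by
    by_contra hnone
    push Not at hnone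
    have huM : u ∈ M2 := Subgroup.mem_sup_left (Subgroup.subset_normalClosure rfl)
    let f : M2 → M2 := fun a => ⟨(a : H) * (β a)⁻¹, mul_mem a.2 (inv_mem (hM2inv _ a.2))⟩
    have hfi : Function.Injective f := by
      intro a b hab
      have h : (a : H) * (β a)⁻¹ = b * (β b)⁻¹ := congrArg Subtype.val hab
      by_contra hne
      refine hnone ((b : H)⁻¹ * a) (mul_mem (inv_mem b.2) a.2) (fun he => hne (Subtype.ext (inv_mul_eq_one.mp he).symm)) ?_
      rw [map_mul, map_inv, eq_inv_mul_iff_mul_eq, ← mul_assoc, ← h, inv_mul_cancel_right]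
    have hinvert : ∀ x ∈ M2, β x = x⁻¹ := by
      intro x hx
      obtain ⟨a, ha⟩ := (Finite.injective_iff_surjective.mp hfi) ⟨x, hx⟩
      have h : (a : H) * (β a)⁻¹ = x := congrArg Subtype.val ha
      rw [← h, map_mul, map_inv, hββ, mul_inv_rev, inv_inv]
    have : M2 = ⊥ := hcomm _ hM2n fun a ha b hb => by
      have h := hinvert _ (mul_mem ha hb)
      rw [map_mul, hinvert a ha, hinvert b hb, mul_inv_rev] at h
      exact inv_injective (by rw [mul_inv_rev, mul_inv_rev, h])
    exact hu (Subgroup.mem_bot.mp (this ▸ huM))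
  set c' := Nat.card {h : C // βC h = h} with hc'
  have hc'c : c' < c := by
    haveI : Nonempty {h : C // βC h = h} := ⟨⟨1, map_one βC⟩⟩
    have h2 : c' * 2 ≤ Nat.card {h : H // β h = h} := by
      rw [show (2 : ℕ) = Nat.card (Fin 2) by rw [Nat.card_fin], hc', ← Nat.card_prod]
      have hfix : ∀ (x : {h : C // βC h = h}), β (x.1 : H) = x.1 := fun x => congrArg Subtype.val x.2
      refine Nat.card_le_card_of_injective (fun x : {h : C // βC h = h} × Fin 2 =>
        (⟨(x.1.1 : H) * (if x.2 = 0 then 1 else z), by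
          split <;> simp [map_mul, hfix, hzfix]⟩ : {h : H // β h = h})) ?_
      rintro ⟨x, i⟩ ⟨y, j⟩ h
      have h' : (x.1 : H) * (if i = 0 then 1 else z) = y.1 * (if j = 0 then 1 else z) := congrArg Subtype.val h
      have hzC : z ∉ C := fun hzC => hz1 (Subgroup.mem_bot.mp (hCM ▸ ⟨hzC, hz⟩))
      fin_cases i <;> fin_cases j
      · simp at h'; exact Prod.ext (Subtype.ext h') rfl
      · simp at h'
        exact absurd (show z ∈ C by rw [eq_inv_mul_iff_mul_eq.mpr h'.symm]; exact mul_mem (inv_mem y.1.2) x.1.2) hzC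
      · simp at h'
        exact absurd (show z ∈ C by rw [eq_inv_mul_iff_mul_eq.mpr h']; exact mul_mem (inv_mem x.1.2) y.1.2) hzC
      · simp at h'; exact Prod.ext (Subtype.ext h') rfl
    have : 0 < c' := Nat.card_pos
    omega
  have hFC : Cfsg.fittingSubgroup C = ⊥ := by
    have hn : ((Cfsg.fittingSubgroup C).map C.subtype).Normal := by
      refine ⟨fun x hx g => ?_⟩
      obtain ⟨y, hy, rfl⟩ := hx
      exact ⟨MulAut.conjNormal g y, Components.map_fittingSubgroup_le (MulAut.conjNormal g) ⟨y, hy, rfl⟩,
        MulAut.conjNormal_apply g y⟩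
    haveI := Components.fittingSubgroup_isNilpotent (G := C)
    have h2 := hab _ hn (Group.nilpotent_of_surjective _ (MonoidHom.subgroupMap_surjective C.subtype _))
    rwa [Subgroup.map_eq_bot_iff_of_injective _ C.subtype_injective] at h2
  have hCcard : Nat.card C ≤ Bp := by
    refine (hB c' hc'c C βC (MulEquiv.ext fun x => Subtype.ext (hββ x)) hFC le_rfl).trans ?_
    rw [hBp]
    exact Nat.le_succ_of_le (Finset.single_le_sum (f := fun i : Fin c => B i.1 i.2) (fun _ _ => Nat.zero_le _) (Finset.mem_univ ⟨c', hc'c⟩))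
  have hCidx : C.index ≤ E ^ E := by
    haveI := Fintype.ofFinite M2
    have hker : (MulAut.conjNormal : H →* MulAut M2).ker ≤ C := by
      intro g hg
      rw [hC, Subgroup.mem_centralizer_iff]
      intro y hy
      have h := congrArg Subtype.val (DFunLike.congr_fun (MonoidHom.mem_ker.mp hg) ⟨y, hy⟩)
      rw [MulAut.conjNormal_apply] at h
      exact (mul_inv_eq_iff_eq_mul.mp h).symm
    refine (Nat.le_of_dvd (Nat.pos_of_ne_zero Subgroup.index_ne_zero_of_finite) (Subgroup.index_dvd_of_le hker)).trans ?_
    rw [Subgroup.index_ker]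
    calc Nat.card (MulAut.conjNormal : H →* MulAut M2).range ≤ Nat.card (MulAut M2) := Subgroup.card_le_card_group _
      _ ≤ Nat.card (M2 → M2) := Nat.card_le_card_of_injective (fun e x => e x) fun e f h => MulEquiv.ext (congrFun h)
      _ = Nat.card M2 ^ Nat.card M2 := Nat.card_fun
      _ ≤ E ^ E := (Nat.pow_le_pow_left hM2card _).trans (Nat.pow_le_pow_right
          (Nat.mul_pos (Nat.factorial_pos _) (Nat.factorial_pos _)) hM2card)
  rw [← C.card_mul_index]
  exact Nat.mul_le_mul hCcard hCidx

end Cfsg.Agent.Lib.InvertedBound
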