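import Cfsg.Agent.S3927
import Cfsg.Agent.Lib.Components.Fitting
import Mathlib.GroupTheory.Perm.Basic
import Mathlib.GroupTheory.Abelianization.Defs

/-!
# Elements of odd order inverted by an involutory automorphism

For an involutory automorphism `α` of a finite group `G` with `[G, α] = G` these elements generate
every quotient of `G` by an invariant normal subgroup.
-/

set_option autoImplicit false

namespace Cfsg.Agent.Lib.InvertedBound

universe u

variable {G : Type u} [Group G]

/-- The elements of odd order inverted by `α`. -/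
def invertedOdd (α : MulAut G) : Set G := {g | Odd (orderOf g) ∧ α g = g⁻¹}

theorem theta_inverted {α : MulAut G} (hα : α * α = 1) (c : G) :
    α (c * (α c)⁻¹) = (c * (α c)⁻¹)⁻¹ := by
  rw [map_mul, map_inv, show α (α c) = c from DFunLike.congr_fun hα c, mul_inv_rev, inv_inv]

theorem theta_iter {α : MulAut G} (hα : α * α = 1) : ∀ (k : ℕ) (c : G),
    (fun c : G => c * (α c)⁻¹)^[k + 1] c = (c * (α c)⁻¹) ^ 2 ^ k := by
  intro k
  induction k with
  | zero => intro c; simp
  | succ k ih =>
    intro c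
    rw [Function.iterate_succ_apply', ih, map_pow, theta_inverted hα, inv_pow, inv_inv, ← pow_add,
      pow_succ, mul_two]

theorem odd_pow_two_pow [Finite G] {k : ℕ} (hk : Nat.card G ≤ 2 ^ k) (x : G) :
    Odd (orderOf (x ^ 2 ^ k)) := by
  have hpos : 0 < orderOf x := orderOf_pos x
  obtain ⟨a, b, hb, hab⟩ := Nat.exists_eq_pow_mul_and_not_dvd hpos.ne' 2 (by norm_num)
  have hak : a ≤ k := by
    refine (Nat.pow_le_pow_iff_right (by norm_num : 1 < 2)).mp (le_trans ?_ hk)
    exact (Nat.le_of_dvd hpos ⟨b, hab⟩).trans (Nat.le_of_dvd Nat.card_pos (orderOf_dvd_natCard x))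
  have h : (x ^ 2 ^ k) ^ b = 1 := by
    rw [← pow_mul, ← Nat.add_sub_cancel' hak, pow_add, mul_right_comm, ← hab, pow_mul,
      pow_orderOf_eq_one, one_pow]
  exact (Nat.odd_iff.mpr (Nat.two_dvd_ne_zero.mp hb)).of_dvd_nat (orderOf_dvd_of_pow_eq_one h)

theorem iter_mem [Finite G] {α : MulAut G} (hα : α * α = 1) {k : ℕ} (hk : Nat.card G ≤ 2 ^ k) (c : G) :
    (fun c : G => c * (α c)⁻¹)^[k + 1] c ∈ invertedOdd α := by
  rw [theta_iter hα]
  exact ⟨odd_pow_two_pow hk _, by rw [map_pow, theta_inverted hα, inv_pow]⟩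

/-- Inverted elements of odd order of a quotient lift. -/
theorem invertedOdd_subset_image [Finite G] {α : MulAut G} (hα : α * α = 1) {H : Type u} [Group H]
    {π : G →* H} (hπ : Function.Surjective π) {β : MulAut H} (hβ : ∀ g, β (π g) = π (α g)) :
    invertedOdd β ⊆ π '' invertedOdd α := by
  intro x hx
  have hk : Nat.card G ≤ 2 ^ Nat.card G := Nat.lt_two_pow_self.le
  obtain ⟨r, hr⟩ := hx.1
  set s := r + 1
  have hs : (x ^ s) ^ 2 = x := by
    rw [← pow_mul, show s * 2 = (2 * r + 1) + 1 by omega, ← hr, pow_succ, pow_orderOf_eq_one, one_mul]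
  -- every power of two has a root in the cyclic group of `x`
  have hroot : ∀ j : ℕ, ∃ y : H, β y = y⁻¹ ∧ y ^ 2 ^ j = x := by
    intro j
    induction j with
    | zero => exact ⟨x, hx.2, by simp⟩
    | succ j ihj =>
      refine ⟨x ^ s ^ (j + 1), by rw [map_pow, hx.2, inv_pow], ?_⟩
      clear ihj
      have : ∀ i : ℕ, (x ^ s ^ i) ^ 2 ^ i = x := by
        intro i
        induction i with
        | zero => simp
        | succ i ihi =>
          rw [← pow_mul, show s ^ (i + 1) * 2 ^ (i + 1) = (s ^ i * 2 ^ i) * (s * 2) by ring,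
            pow_mul x (s ^ i * 2 ^ i), pow_mul x (s ^ i), ihi, pow_mul, hs]
      exact this (j + 1)
  obtain ⟨y, hy, hyx⟩ := hroot (Nat.card G + 1)
  obtain ⟨g, rfl⟩ := hπ y
  refine ⟨_, iter_mem hα hk g, ?_⟩
  rw [theta_iter hα, map_pow, map_mul, map_inv, ← hβ, hy, inv_inv, ← pow_two, ← pow_mul,
    ← pow_succ', hyx]

theorem image_subset_invertedOdd {α : MulAut G} {H : Type u} [Group H] {π : G →* H} {β : MulAut H}
    (hβ : ∀ g, β (π g) = π (α g)) : π '' invertedOdd α ⊆ invertedOdd β := by
  rintro _ ⟨g, hg, rfl⟩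
  exact ⟨hg.1.of_dvd_nat (orderOf_map_dvd π g), by rw [hβ, hg.2, map_inv]⟩

theorem card_invertedOdd_le [Finite G] {α : MulAut G} (hα : α * α = 1) {H : Type u} [Group H]
    {π : G →* H} (hπ : Function.Surjective π) {β : MulAut H} (hβ : ∀ g, β (π g) = π (α g)) :
    Nat.card (invertedOdd β) ≤ Nat.card (invertedOdd α) := by
  rw [Nat.card_coe_set_eq, Nat.card_coe_set_eq]
  exact (Set.ncard_le_ncard (invertedOdd_subset_image hα hπ hβ) (Set.toFinite _)).trans
    (Set.ncard_image_le (Set.toFinite _))

theorem closure_invertedOdd [Finite G] {α : MulAut G} (hα : α * α = 1)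
    (hG : Subgroup.closure (Set.range (fun c : G => c * (α c)⁻¹)) = ⊤) :
    Subgroup.closure (invertedOdd α) = ⊤ := by
  refine top_le_iff.mp ((S3927.result α hG (Nat.card G + 1) (Nat.le_add_left 1 _)).ge.trans
    (Subgroup.closure_mono ?_))
  rintro _ ⟨c, rfl⟩
  exact iter_mem hα Nat.lt_two_pow_self.le c

theorem closure_invertedOdd_map [Finite G] {α : MulAut G} (hα : α * α = 1)
    (hG : Subgroup.closure (Set.range (fun c : G => c * (α c)⁻¹)) = ⊤) {H : Type u} [Group H]
    {π : G →* H} (hπ : Function.Surjective π) {β : MulAut H} (hβ : ∀ g, β (π g) = π (α g)) :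
    Subgroup.closure (invertedOdd β) = ⊤ := by
  refine top_le_iff.mp (le_trans ?_ (Subgroup.closure_mono (image_subset_invertedOdd (H := H) hβ)))
  rw [← MonoidHom.map_closure, closure_invertedOdd hα hG, Subgroup.map_top_of_surjective _ hπ]

/-- The subgroup of fixed points. -/
def fixedSubgroup (α : MulAut G) : Subgroup G :=
  MonoidHom.eqLocus α.toMonoidHom (MonoidHom.id G)

theorem mem_fixedSubgroup {α : MulAut G} {g : G} : g ∈ fixedSubgroup α ↔ α g = g := Iff.rfl

/-- The centre has bounded index in the fixed points. -/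
theorem relIndex_center_le [Finite G] {α : MulAut G}
    (hgen : Subgroup.closure (invertedOdd α) = ⊤) :
    (Subgroup.center G).relIndex (fixedSubgroup α) ≤ (Nat.card (invertedOdd α)).factorial := by
  classical
  have hinv : ∀ c : fixedSubgroup α, ∀ x ∈ invertedOdd α, (c : G) * x * (c : G)⁻¹ ∈ invertedOdd α := by
    intro c x hx
    refine ⟨?_, by rw [map_mul, map_mul, map_inv, mem_fixedSubgroup.mp c.2, hx.2, mul_inv_rev, mul_inv_rev,
      inv_inv, mul_assoc]⟩
    have h := orderOf_map_dvd (MulAut.conj (c : G)).toMonoidHom x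
    exact hx.1.of_dvd_nat h
  let f : fixedSubgroup α →* Equiv.Perm (invertedOdd α) :=
    { toFun := fun c =>
        { toFun := fun x => ⟨(c : G) * x * (c : G)⁻¹, hinv c x x.2⟩
          invFun := fun x => ⟨((c⁻¹ : fixedSubgroup α) : G) * x * ((c⁻¹ : fixedSubgroup α) : G)⁻¹,
            hinv c⁻¹ x x.2⟩
          left_inv := fun x => Subtype.ext (by simp [mul_assoc])
          right_inv := fun x => Subtype.ext (by simp [mul_assoc]) }
      map_one' := Equiv.ext fun x => Subtype.ext (by simp)
      map_mul' := fun c d => Equiv.ext fun x => Subtype.ext (by simp [mul_assoc]) }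
  have hker : f.ker ≤ (Subgroup.center G).subgroupOf (fixedSubgroup α) := by
    intro c hc
    rw [Subgroup.mem_subgroupOf, Subgroup.mem_center_iff]
    intro g
    have hle : Subgroup.closure (invertedOdd α) ≤ Subgroup.centralizer ({(c : G)} : Set G) := by
      rw [Subgroup.closure_le]
      intro x hx
      have h : (c : G) * x * (c : G)⁻¹ = x :=
        congrArg Subtype.val (DFunLike.congr_fun (MonoidHom.mem_ker.mp hc) ⟨x, hx⟩)
      exact Subgroup.mem_centralizer_singleton_iff.mpr (mul_inv_eq_iff_eq_mul.mp h).symm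
    exact Subgroup.mem_centralizer_singleton_iff.mp (hle (hgen.ge (Subgroup.mem_top g)))
  refine (Nat.le_of_dvd (Nat.pos_of_ne_zero Subgroup.index_ne_zero_of_finite)
    (Subgroup.index_dvd_of_le hker)).trans ?_
  rw [Subgroup.index_ker, ← Nat.card_perm]
  exact Subgroup.card_le_card_group _

end Cfsg.Agent.Lib.InvertedBound
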