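import Cfsg.Agent.Lib.InvertedBound.TwoGroup
import Cfsg.Agent.Lib.InvertedBound.Centralizer
import Cfsg.Agent.Lib.InvertedBound.Quotient
import Cfsg.Agent.Lib.Characters.Kazarin
import Cfsg.Agent.Lib.Cores.Basic
import Mathlib.GroupTheory.Schreier

/-!
# Bounding the order by the number of inverted elements of odd order
-/

set_option autoImplicit false
set_option linter.style.haveILetI false

namespace Cfsg.Agent.Lib.InvertedBound

universe u

open Subgroup
open scoped commutatorElement

variable {G : Type u} [Group G] [Finite G]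

theorem map_eq_self_of_invariant {α : MulAut G} {K : Subgroup G} (h : ∀ x ∈ K, α x ∈ K) :
    K.map α.toMonoidHom = K :=
  Subgroup.eq_of_le_of_card_ge (by rintro _ ⟨x, hx, rfl⟩; exact h x hx)
    (Subgroup.card_map_of_injective (show Function.Injective α.toMonoidHom from α.injective)).ge

/-- The index of the centralizer of an inverted odd element in a normal 2-subgroup. -/
theorem relIndex_centralizer_le {α : MulAut G} (hα : α * α = 1) (P : Subgroup G) [P.Normal]
    (hP : IsPGroup 2 P) (hPα : ∀ x ∈ P, α x ∈ P) {w : G} (hw : w ∈ invertedOdd α) :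
    (centralizer ({w} : Set G)).relIndex P ≤ Nat.card (invertedOdd α) ^ 2 := by
  classical
  have hαα : ∀ g, α (α g) = g := fun g => DFunLike.congr_fun hα g
  let αP : MulAut P :=
    { toFun := fun x => ⟨α x, hPα x x.2⟩
      invFun := fun x => ⟨α x, hPα x x.2⟩
      left_inv := fun x => Subtype.ext (hαα x)
      right_inv := fun x => Subtype.ext (hαα x)
      map_mul' := fun x y => Subtype.ext (map_mul α (x : G) y) }
  let σ : MulAut P := MulAut.conjNormal w
  have h := sq_le_fixed_cosets _ P rfl hP αP σ (orderOf w)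
    (MulEquiv.ext fun x => Subtype.ext (hαα x)) hw.1
    (by show (MulAut.conjNormal w) ^ orderOf w = 1; rw [← map_pow, pow_orderOf_eq_one, map_one])
    (MulEquiv.ext fun x => Subtype.ext (by
      show α (MulAut.conjNormal w (αP x) : G) = ((MulAut.conjNormal w)⁻¹ x : P)
      rw [← map_inv, MulAut.conjNormal_apply, MulAut.conjNormal_apply, map_mul, map_mul, map_inv, hw.2]
      show w⁻¹ * α (α x) * w⁻¹⁻¹ = _
      rw [hαα]))
  set C := (centralizer ({w} : Set G)).subgroupOf P with hC
  have hfix : ∀ p : P, σ p = p ↔ p ∈ C := by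
    intro p
    rw [hC, mem_subgroupOf, mem_centralizer_singleton_iff, Subtype.ext_iff, MulAut.conjNormal_apply,
      mul_inv_eq_iff_eq_mul, eq_comm]
  have hcC : Nat.card {p : P // σ p = p} = Nat.card C :=
    Nat.card_congr (Equiv.subtypeEquivRight hfix)
  have hgood : Nat.card {p : P // σ (p⁻¹ * αP p) = p⁻¹ * αP p} ≤ Nat.card (invertedOdd α) * Nat.card C := by
    have hval : ∀ p : {p : P // σ (p⁻¹ * αP p) = p⁻¹ * αP p},
        (p.1 : G) * w * (p.1 : G)⁻¹ ∈ invertedOdd α := by
      rintro ⟨p, hp⟩
      refine ⟨hw.1.of_dvd_nat (orderOf_map_dvd (MulAut.conj (p : G)).toMonoidHom w), ?_⟩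
      have h1 : w * ((p : G)⁻¹ * α p) = ((p : G)⁻¹ * α p) * w := by
        have := congrArg Subtype.val hp
        rw [MulAut.conjNormal_apply] at this
        exact mul_inv_eq_iff_eq_mul.mp this
      have h2 : α (p : G) = p * ((p : G)⁻¹ * α p) := (mul_inv_cancel_left _ _).symm
      rw [map_mul, map_mul, map_inv, hw.2, h2]
      generalize (p : G)⁻¹ * α p = q at h1
      have h3 : q * w⁻¹ * q⁻¹ = w⁻¹ := by
        rw [mul_inv_eq_iff_eq_mul, eq_inv_mul_iff_mul_eq, ← mul_assoc, h1, mul_inv_cancel_right]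
      calc (p : G) * q * w⁻¹ * ((p : G) * q)⁻¹ = (p : G) * (q * w⁻¹ * q⁻¹) * (p : G)⁻¹ := by group
        _ = _ := by rw [h3]; group
    let v := fun p => (⟨_, hval p⟩ : invertedOdd α)
    have hr : ∀ x ∈ Set.range v, ∃ p, v p = x := fun x hx => hx
    choose r hr using hr
    rw [← Nat.card_prod]
    refine Nat.card_le_card_of_injective
      (fun p => (v p, (⟨(r (v p) ⟨p, rfl⟩).1⁻¹ * p.1, ?_⟩ : C))) ?_
    · rw [hC, mem_subgroupOf, mem_centralizer_singleton_iff]
      have h1 : ((r (v p) ⟨p, rfl⟩).1 : G) * w * ((r (v p) ⟨p, rfl⟩).1 : G)⁻¹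
          = (p.1 : G) * w * (p.1 : G)⁻¹ := congrArg Subtype.val (hr (v p) ⟨p, rfl⟩)
      simp only [Subgroup.coe_mul, InvMemClass.coe_inv]
      generalize ((r (v p) ⟨p, rfl⟩).1 : G) = a at h1 ⊢
      calc a⁻¹ * (p.1 : G) * w = a⁻¹ * ((p.1 : G) * w * (p.1 : G)⁻¹) * (p.1 : G) := by group
        _ = w * (a⁻¹ * p.1) := by rw [← h1]; group
    · intro p q hpq
      obtain ⟨h1, h2⟩ := Prod.ext_iff.mp hpq
      have h3 : (r (v p) ⟨p, rfl⟩).1⁻¹ * p.1 = (r (v q) ⟨q, rfl⟩).1⁻¹ * q.1 := congrArg Subtype.val h2
      have h4 : r (v p) ⟨p, rfl⟩ = r (v q) ⟨q, rfl⟩ := by congr 1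
      rw [h4] at h3
      exact Subtype.ext (mul_left_cancel h3)
  rw [hcC] at h
  have h2 : C.index * (Nat.card C * Nat.card C) ≤
      Nat.card (invertedOdd α) ^ 2 * (Nat.card C * Nat.card C) := by
    calc _ = Nat.card P * Nat.card C := by rw [← C.index_mul_card]; ring
      _ ≤ _ := h.trans (Nat.pow_le_pow_left hgood 2)
      _ = _ := by ring
  exact Nat.le_of_mul_le_mul_right h2 (Nat.mul_pos Nat.card_pos Nat.card_pos)

/-- The centre has bounded index in an invariant normal 2-subgroup. -/
theorem relIndex_center_two_le {α : MulAut G} (hα : α * α = 1)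
    (hgen : closure (invertedOdd α) = ⊤) (P : Subgroup G) [P.Normal] (hP : IsPGroup 2 P)
    (hPα : ∀ x ∈ P, α x ∈ P) :
    (center G).relIndex P ≤ (Nat.card (invertedOdd α) ^ 2) ^ Nat.card (invertedOdd α) := by
  classical
  haveI := Fintype.ofFinite (invertedOdd α)
  set K : Subgroup P := ⨅ w : invertedOdd α, (centralizer ({(w : G)} : Set G)).subgroupOf P
  have hK : K ≤ (center G).subgroupOf P := by
    intro x hx
    rw [mem_subgroupOf, mem_center_iff]
    intro g
    have hle : closure (invertedOdd α) ≤ centralizer ({(x : G)} : Set G) := by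
      rw [closure_le]
      intro w hw
      have h := mem_centralizer_singleton_iff.mp (mem_subgroupOf.mp (mem_iInf.mp hx ⟨w, hw⟩))
      exact mem_centralizer_singleton_iff.mpr h.symm
    exact mem_centralizer_singleton_iff.mp (hle (hgen.ge (mem_top g)))
  refine (Nat.le_of_dvd (Nat.pos_of_ne_zero index_ne_zero_of_finite) (index_dvd_of_le hK)).trans ?_
  refine (index_iInf_le _).trans ?_
  refine (Finset.prod_le_pow_card _ _ (Nat.card (invertedOdd α) ^ 2)
    fun w _ => relIndex_centralizer_le hα P hP hPα w.2).trans ?_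
  rw [Nat.card_eq_fintype_card, Finset.card_univ]

/-- The centre has bounded index in an invariant normal subgroup of odd order. -/
theorem relIndex_center_odd_le {α : MulAut G} (hα : α * α = 1)
    (hgen : closure (invertedOdd α) = ⊤) (O : Subgroup G) (hO : Odd (Nat.card O))
    (hOα : ∀ x ∈ O, α x ∈ O) :
    (center G).relIndex O ≤ (Nat.card (invertedOdd α)).factorial * Nat.card (invertedOdd α) := by
  classical
  set C := fixedSubgroup α ⊓ O
  have hval : ∀ a : O, (a : G) * (α a)⁻¹ ∈ invertedOdd α := by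
    intro a
    refine ⟨hO.of_dvd_nat ?_, theta_inverted hα _⟩
    exact Subgroup.orderOf_dvd_natCard O (mul_mem a.2 (inv_mem (hOα _ a.2)))
  have hC : Nat.card O ≤ Nat.card (invertedOdd α) * Nat.card C := by
    let v := fun a : O => (⟨_, hval a⟩ : invertedOdd α)
    have hr : ∀ x ∈ Set.range v, ∃ a, v a = x := fun x hx => hx
    choose r hr using hr
    rw [← Nat.card_prod]
    refine Nat.card_le_card_of_injective (fun a => (v a, (⟨((r (v a) ⟨a, rfl⟩ : O) : G)⁻¹ * a, ?_⟩ : C))) ?_
    · refine mem_inf.mpr ⟨?_, mul_mem (inv_mem (SetLike.coe_mem _)) a.2⟩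
      have h1 : ((r (v a) ⟨a, rfl⟩ : O) : G) * (α (r (v a) ⟨a, rfl⟩ : O))⁻¹ = (a : G) * (α a)⁻¹ :=
        congrArg Subtype.val (hr (v a) ⟨a, rfl⟩)
      generalize ((r (v a) ⟨a, rfl⟩ : O) : G) = b at h1 ⊢
      have h2 : (a : G) = b * ((α b)⁻¹ * α a) := by
        rw [← mul_assoc, h1, inv_mul_cancel_right]
      rw [mem_fixedSubgroup, map_mul, map_inv]
      exact (inv_mul_eq_iff_eq_mul.mpr h2).symm
    · intro a b hab
      obtain ⟨h1, h2⟩ := Prod.ext_iff.mp hab
      have h3 : ((r (v a) ⟨a, rfl⟩ : O) : G)⁻¹ * a = ((r (v b) ⟨b, rfl⟩ : O) : G)⁻¹ * b := congrArg Subtype.val h2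
      have h4 : r (v a) ⟨a, rfl⟩ = r (v b) ⟨b, rfl⟩ := by congr 1
      rw [h4] at h3
      exact Subtype.ext (mul_left_cancel h3)
  have hCO : C.relIndex O ≤ Nat.card (invertedOdd α) := by
    have h : C.relIndex O * Nat.card C = Nat.card O := by
      rw [relIndex, ← Nat.card_congr (subgroupOfEquivOfLe (inf_le_right : C ≤ O)).toEquiv]
      exact index_mul_card _
    exact Nat.le_of_mul_le_mul_right (h.le.trans hC) Nat.card_pos
  calc (center G).relIndex O ≤ (center G ⊓ C).relIndex O :=
        relIndex_le_of_le_left inf_le_left index_ne_zero_of_finite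
    _ = (center G).relIndex C * C.relIndex O := by
        rw [← relIndex_mul_relIndex _ C O inf_le_right inf_le_right, inf_relIndex_right]
    _ ≤ _ := Nat.mul_le_mul ((relIndex_le_of_le_right inf_le_left index_ne_zero_of_finite).trans
        (relIndex_center_le hgen)) hCO

omit [Finite G] in
theorem isNilpotent_center : Group.IsNilpotent (center G) :=
  Subgroup.isNilpotent_of_lowerCentralSeries_eq_bot (n := 1) (by
    rw [Subgroup.lowerCentralSeries_succ, Subgroup.lowerCentralSeries_zero, commutator_eq_bot_iff_le_centralizer]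
    exact center_le_centralizer _)

omit [Finite G] in
theorem mem_invariant_pCore (α : MulAut G) (p : ℕ) : ∀ x ∈ Cfsg.pCore p G, α x ∈ Cfsg.pCore p G :=
  fun x hx => Components.map_pCore_le p α ⟨x, hx, rfl⟩

omit [Finite G] in
theorem mem_invariant_pPrimeCore (α : MulAut G) (p : ℕ) :
    ∀ x ∈ Cfsg.pPrimeCore p G, α x ∈ Cfsg.pPrimeCore p G :=
  fun x hx => Components.map_pPrimeCore_le p α ⟨x, hx, rfl⟩

omit [Finite G] in
theorem exists_solvable_radical [Finite G] :
    ∃ R : Subgroup G, R.Normal ∧ Group.IsSolvable R ∧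
      ∀ N : Subgroup G, N.Normal → Group.IsSolvable N → N ≤ R := by
  obtain ⟨R, -, hR⟩ := Set.Finite.exists_le_maximal
    (Set.toFinite {A : Subgroup G | A.Normal ∧ Group.IsSolvable A})
    (show (⊥ : Subgroup G) ∈ {A : Subgroup G | A.Normal ∧ Group.IsSolvable A} from
      ⟨inferInstance, inferInstance⟩)
  obtain ⟨hRn, hRs⟩ := hR.prop
  refine ⟨R, hRn, hRs, fun N hN hNs => le_trans le_sup_right
    (hR.le_of_ge (show R ⊔ N ∈ {A : Subgroup G | A.Normal ∧ Group.IsSolvable A} from ?_) le_sup_left)⟩
  exact ⟨sup_normal R N, Characters.isSolvable_sup_normal R N hRs hNs⟩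

set_option maxHeartbeats 1000000 in
/-- The order is bounded by a function of the number of inverted elements of odd order. -/
theorem exists_bound (m : ℕ) : ∃ B : ℕ, ∀ (G : Type u) [Group G] [Finite G] (α : MulAut G),
    α * α = 1 → closure (Set.range (fun c : G => c * (α c)⁻¹)) = ⊤ →
      Nat.card (invertedOdd α) ≤ m → Nat.card G ≤ B := by
  classical
  obtain ⟨B1, hB1⟩ := exists_bound_of_fitting_bot.{u} m.factorial
  set n := (m ^ 2) ^ m * (m.factorial * m) with hn
  set N := n * n ^ n * B1 with hN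
  refine ⟨(Finset.range (N * N + 1)).sup cardCommutatorBound * m, ?_⟩
  intro G _ _ α hα hG hm
  have hgen := closure_invertedOdd hα hG
  have hI1 : 1 ≤ Nat.card (invertedOdd α) := by
    haveI : Nonempty (invertedOdd α) := ⟨⟨1, by simp [invertedOdd]⟩⟩
    exact Nat.card_pos
  have hm1 : 1 ≤ m := hI1.trans hm
  set Z := center G with hZ
  set π := QuotientGroup.mk' Z
  have hπrel : ∀ K : Subgroup G, Nat.card (K.map π) = Z.relIndex K := fun K => by
    rw [← relIndex_ker, QuotientGroup.ker_mk']
  -- the Fitting subgroup modulo the centre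
  set F := Cfsg.fittingSubgroup G
  haveI hFn : F.Normal := Cores.fittingSubgroup_normal G
  haveI hFnil : Group.IsNilpotent F := Components.fittingSubgroup_isNilpotent
  set P := Cfsg.pCore 2 G
  haveI hPn : P.Normal := sSup_normal _ (fun _ h => h.1)
  set O := Cfsg.pPrimeCore 2 G
  haveI hOn : O.Normal := sSup_normal _ (fun _ h => h.1)
  have hFW : F ≤ P ⊔ O := by
    refine Components.fittingSubgroup_le_iSup_pCore.trans (iSup_le fun q => ?_)
    rcases eq_or_ne (q : ℕ) 2 with h | h
    · rw [h]; exact le_sup_left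
    · refine le_sup_of_le_right (Components.le_pPrimeCore inferInstance ?_)
      have : Fact (q : ℕ).Prime := ⟨q.2⟩
      obtain ⟨k, hk⟩ := IsPGroup.iff_card.mp (Components.pCore_isPGroup (G := G) (q : ℕ))
      rw [hk]
      exact ((Nat.coprime_primes q.2 Nat.prime_two).mpr h).pow_left k
  have hFcard : Nat.card (F.map π) ≤ n := by
    refine (card_le_of_le (map_mono hFW)).trans ?_
    rw [Subgroup.map_sup]
    haveI : (O.map π).Normal := hOn.map _ (QuotientGroup.mk'_surjective _)
    refine (Nat.le_of_dvd (Nat.mul_pos Nat.card_pos Nat.card_pos) (Components.card_sup_dvd _ _)).trans ?_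
    rw [hπrel, hπrel]
    refine Nat.mul_le_mul ?_ ?_
    · refine (relIndex_center_two_le hα hgen P (Components.pCore_isPGroup 2) (mem_invariant_pCore α 2)).trans ?_
      exact (Nat.pow_le_pow_left (Nat.pow_le_pow_left hm 2) _).trans
        (Nat.pow_le_pow_right (Nat.one_le_pow _ _ hm1) hm)
    · refine (relIndex_center_odd_le hα hgen O ?_ (mem_invariant_pPrimeCore α 2)).trans
        (Nat.mul_le_mul (Nat.factorial_le hm) hm)
      exact Nat.odd_iff.mpr (Nat.two_dvd_ne_zero.mp fun h =>
        absurd (Nat.Coprime.eq_one_of_dvd ((Components.pPrimeCore_coprime 2).symm) h) (by norm_num))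
  -- the solvable radical
  obtain ⟨R, hRn, hRs, hRmax⟩ := exists_solvable_radical (G := G)
  haveI := hRn
  haveI := hRs
  have hFR : F ≤ R := hRmax F hFn inferInstance
  have hZR : Z ≤ R := by
    refine hRmax Z inferInstance (Group.isSolvable_of_comm fun a b => Subtype.ext ?_)
    exact mem_center_iff.mp b.2 a
  have hRα : R.map α.toMonoidHom = R := by
    refine eq_of_le_of_card_ge (hRmax _ (hRn.map _ α.surjective)
      (Group.isSolvable_of_surjective (MonoidHom.subgroupMap_surjective α.toMonoidHom R))) ?_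
    rw [card_map_of_injective (show Function.Injective α.toMonoidHom from α.injective)]
  -- the quotient by the radical
  have hGR : R.index ≤ B1 := by
    let β : MulAut (G ⧸ R) := QuotientGroup.congr R R α hRα
    have hβ : ∀ g : G, β (QuotientGroup.mk' R g) = QuotientGroup.mk' R (α g) := fun g => rfl
    have hββ : β * β = 1 := MulEquiv.ext fun q => QuotientGroup.induction_on q fun g => by
      show β (β (QuotientGroup.mk' R g)) = QuotientGroup.mk' R g
      rw [hβ, hβ, show α (α g) = g from DFunLike.congr_fun hα g]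
    have hfit : Cfsg.fittingSubgroup (G ⧸ R) = ⊥ := by
      set K := (Cfsg.fittingSubgroup (G ⧸ R)).comap (QuotientGroup.mk' R)
      haveI : (Cfsg.fittingSubgroup (G ⧸ R)).Normal := Cores.fittingSubgroup_normal _
      haveI : Group.IsSolvable (Cfsg.fittingSubgroup (G ⧸ R)) := Components.fittingSubgroup_isSolvable
      have hK : K ≤ R := by
        refine hRmax K inferInstance ?_
        have hRK : R ≤ K := fun x hx => by
          rw [show x ∈ K ↔ QuotientGroup.mk' R x ∈ Cfsg.fittingSubgroup (G ⧸ R) from Iff.rfl,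
            show QuotientGroup.mk' R x = 1 from (QuotientGroup.eq_one_iff x).mpr hx]
          exact one_mem _
        refine Group.isSolvable_of_ker_le_range (Subgroup.inclusion hRK)
          ((QuotientGroup.mk' R).subgroupComap (Cfsg.fittingSubgroup (G ⧸ R))) ?_
        intro x hx
        exact ⟨⟨x, (QuotientGroup.eq_one_iff _).mp (congrArg Subtype.val hx)⟩, rfl⟩
      rw [← map_comap_eq_self_of_surjective (QuotientGroup.mk'_surjective R) (Cfsg.fittingSubgroup (G ⧸ R)),
        eq_bot_iff]
      exact (map_mono hK).trans_eq (QuotientGroup.map_mk'_self R)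
    have hcent : center (G ⧸ R) = ⊥ := by
      rw [eq_bot_iff, ← hfit]
      exact Components.le_fittingSubgroup inferInstance isNilpotent_center
    refine hB1 (G ⧸ R) β hββ hfit ?_
    have h1 := relIndex_center_le (closure_invertedOdd_map hα hG (QuotientGroup.mk'_surjective R) hβ)
    rw [hcent, relIndex_bot_left] at h1
    exact h1.trans (Nat.factorial_le ((card_invertedOdd_le hα (QuotientGroup.mk'_surjective R) hβ).trans hm))
  -- the elements of `R` centralizing the Fitting subgroup modulo the centre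
  set Fb := F.map π
  haveI : Fb.Normal := hFn.map _ (QuotientGroup.mk'_surjective _)
  let φ : G →* MulAut Fb := (MulAut.conjNormal).comp π
  set Cc := R ⊓ φ.ker
  haveI : Cc.Normal := inferInstance
  have hCcF : Cc ≤ F := by
    have h1 : ⁅Cc, F⁆ ≤ Z := commutator_le.mpr fun c hc f hf => by
      refine (QuotientGroup.eq_one_iff _).mp ?_
      have h := congrArg Subtype.val
        (DFunLike.congr_fun (MonoidHom.mem_ker.mp (mem_inf.mp hc).2) ⟨π f, mem_map_of_mem π hf⟩)
      show π ⁅c, f⁆ = 1
      rw [map_commutatorElement, commutatorElement_eq_one_iff_mul_comm]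
      simp only [φ, MonoidHom.comp_apply, MulAut.one_apply, MulAut.conjNormal_apply] at h
      exact mul_inv_eq_iff_eq_mul.mp h
    have hZc : ∀ X : Subgroup G, ⁅Z, X⁆ = ⊥ := fun X => by
      rw [commutator_eq_bot_iff_le_centralizer]
      exact center_le_centralizer _
    have h1' : ⁅F, Cc⁆ ≤ Z := (commutator_comm F Cc).le.trans h1
    have h2 : ⁅⁅Cc, Cc⁆, F⁆ = ⊥ := commutator_commutator_eq_bot_of_rotate
      (le_bot_iff.mp ((commutator_mono h1 le_rfl).trans (hZc _).le))
      (le_bot_iff.mp ((commutator_mono h1' le_rfl).trans (hZc _).le))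
    have h3 : ⁅Cc, Cc⁆ ≤ F := by
      intro x hx
      have hxR : x ∈ R := (mem_inf.mp (commutator_le_self Cc hx)).1
      obtain ⟨y, hy, hyx⟩ : x ∈ (Cfsg.fittingSubgroup R).map R.subtype := by
        refine ⟨⟨x, hxR⟩, Cores.centralizer_fittingSubgroup_le hRs ?_, rfl⟩
        rw [mem_centralizer_iff]
        intro f hf
        apply Subtype.ext
        have hfF : (f : G) ∈ F := by
          have hn : ((Cfsg.fittingSubgroup R).map R.subtype).Normal := by
            refine ⟨fun z hz g => ?_⟩
            obtain ⟨y, hy, rfl⟩ := hz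
            exact ⟨MulAut.conjNormal g y, Components.map_fittingSubgroup_le (MulAut.conjNormal g) ⟨y, hy, rfl⟩,
              MulAut.conjNormal_apply g y⟩
          haveI := Components.fittingSubgroup_isNilpotent (G := R)
          exact Components.le_fittingSubgroup hn
            (Group.nilpotent_of_surjective _ (MonoidHom.subgroupMap_surjective R.subtype _)) ⟨f, hf, rfl⟩
        exact mem_centralizer_iff.mp ((commutator_eq_bot_iff_le_centralizer.mp h2) hx) (f : G) hfF
      rw [← hyx]
      have hn : ((Cfsg.fittingSubgroup R).map R.subtype).Normal := by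
        refine ⟨fun z hz g => ?_⟩
        obtain ⟨y, hy, rfl⟩ := hz
        exact ⟨MulAut.conjNormal g y, Components.map_fittingSubgroup_le (MulAut.conjNormal g) ⟨y, hy, rfl⟩,
          MulAut.conjNormal_apply g y⟩
      haveI := Components.fittingSubgroup_isNilpotent (G := R)
      exact Components.le_fittingSubgroup hn
        (Group.nilpotent_of_surjective _ (MonoidHom.subgroupMap_surjective R.subtype _)) ⟨y, hy, rfl⟩
    refine Components.le_fittingSubgroup inferInstance ?_
    refine Subgroup.isNilpotent_of_lowerCentralSeries_eq_bot (n := 3) ?_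
    simp only [Subgroup.lowerCentralSeries_succ, Subgroup.lowerCentralSeries_zero]
    rw [eq_bot_iff]
    calc ⁅⁅⁅Cc, Cc⁆, Cc⁆, Cc⁆ ≤ ⁅⁅F, Cc⁆, Cc⁆ := commutator_mono (commutator_mono h3 le_rfl) le_rfl
      _ ≤ ⁅Z, Cc⁆ := commutator_mono h1' le_rfl
      _ = ⊥ := hZc _
  have hRZ : Z.relIndex R ≤ n * n ^ n := by
    have hZF : Z ≤ F := Components.le_fittingSubgroup inferInstance isNilpotent_center
    rw [← relIndex_mul_relIndex _ F R hZF hFR]
    refine Nat.mul_le_mul ((hπrel F).symm.le.trans hFcard) ?_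
    refine (relIndex_le_of_le_left hCcF index_ne_zero_of_finite).trans ?_
    rw [show Cc.relIndex R = φ.ker.relIndex R by
      show (R ⊓ φ.ker).relIndex R = _
      rw [inf_comm, inf_relIndex_right], relIndex_ker]
    calc Nat.card (R.map φ) ≤ Nat.card (MulAut Fb) := card_le_card_group _
      _ ≤ Nat.card (Fb → Fb) := Nat.card_le_card_of_injective (fun e x => e x) fun e f h => MulEquiv.ext (congrFun h)
      _ = Nat.card Fb ^ Nat.card Fb := Nat.card_fun
      _ ≤ n ^ n := (Nat.pow_le_pow_left hFcard _).trans (Nat.pow_le_pow_right (by positivity) hFcard)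
  have hZi : Z.index ≤ N := by
    rw [← relIndex_mul_index hZR]
    exact Nat.mul_le_mul hRZ hGR
  -- Schur
  have hcs : Nat.card (commutatorSet G) ≤ N * N := by
    have h : commutatorSet G = Set.range fun x : (G ⧸ Z) × (G ⧸ Z) => ⁅x.1.out, x.2.out⁆ := by
      ext c
      constructor
      · rintro ⟨a, b, rfl⟩
        refine ⟨((a : G ⧸ Z), (b : G ⧸ Z)), ?_⟩
        obtain ⟨z, hz⟩ := QuotientGroup.mk_out_eq_mul Z a
        obtain ⟨y, hy⟩ := QuotientGroup.mk_out_eq_mul Z b
        have hzc := mem_center_iff.mp z.2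
        have hyc := mem_center_iff.mp y.2
        show ⁅(a : G ⧸ Z).out, (b : G ⧸ Z).out⁆ = ⁅a, b⁆
        rw [hz, hy, commutatorElement_def, commutatorElement_def, mul_inv_rev, mul_inv_rev]
        calc a * z * (b * y) * ((z : G)⁻¹ * a⁻¹) * ((y : G)⁻¹ * b⁻¹)
            = a * ((z : G) * (b * y)) * ((z : G)⁻¹ * a⁻¹) * ((y : G)⁻¹ * b⁻¹) := by group
          _ = a * b * (y * a⁻¹) * ((y : G)⁻¹ * b⁻¹) := by rw [← hzc (b * y)]; group
          _ = _ := by rw [← hyc a⁻¹]; group
      · rintro ⟨x, rfl⟩; exact ⟨_, _, rfl⟩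
    rw [h]
    refine (Finite.card_range_le _).trans ?_
    rw [Nat.card_prod, ← index_eq_card]
    exact Nat.mul_le_mul hZi hZi
  have hcomm : Nat.card (_root_.commutator G) ≤ (Finset.range (N * N + 1)).sup cardCommutatorBound :=
    (card_commutator_le_of_finite_commutatorSet G).trans
      (Finset.le_sup (f := cardCommutatorBound) (Finset.mem_range.mpr (Nat.lt_succ_of_le hcs)))
  have hab : (_root_.commutator G).index ≤ m := by
    have hcα : (_root_.commutator G).map α.toMonoidHom = _root_.commutator G :=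
      map_eq_self_of_invariant fun x hx => (characteristic_iff_map_le.mp inferInstance α) ⟨x, hx, rfl⟩
    let β : MulAut (Abelianization G) := QuotientGroup.congr _ _ α hcα
    have hβ : ∀ g : G, β (Abelianization.of g) = Abelianization.of (α g) := fun g => rfl
    have hgenA := closure_invertedOdd_map hα hG (π := Abelianization.of) (QuotientGroup.mk_surjective) hβ
    let S : Subgroup (Abelianization G) :=
      { carrier := invertedOdd β
        one_mem' := by simp [invertedOdd]
        mul_mem' := fun {a b} ha hb => ⟨(ha.1.mul hb.1).of_dvd_nat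
          ((Commute.all a b).orderOf_mul_dvd_mul_orderOf), by rw [map_mul, ha.2, hb.2, mul_inv]⟩
        inv_mem' := fun {a} ha => ⟨by rw [orderOf_inv]; exact ha.1, by rw [map_inv, ha.2]⟩ }
    have hS : S = ⊤ := top_le_iff.mp (hgenA.ge.trans ((closure_le _).mpr fun x hx => hx))
    calc (_root_.commutator G).index = Nat.card (Abelianization G) := index_eq_card _
      _ = Nat.card S := by rw [hS, card_top]
      _ = Nat.card (invertedOdd β) := rfl
      _ ≤ m := (card_invertedOdd_le hα (π := Abelianization.of) QuotientGroup.mk_surjective hβ).trans hm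
  rw [← (_root_.commutator G).card_mul_index]
  exact Nat.mul_le_mul hcomm hab

end Cfsg.Agent.Lib.InvertedBound
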