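import Mathlib.GroupTheory.SpecificGroups.Cyclic
import Mathlib.GroupTheory.PGroup
import Mathlib.GroupTheory.QuotientGroup.Basic
import Mathlib.Tactic.Group

/-!
# Cosets fixed by an involutory automorphism of a 2-group

If `σ` has odd order and is inverted by the involutory automorphism `α`, the number of cosets of
the fixed points of `σ` fixed by `α` is at least the square root of their number.
-/

set_option autoImplicit false

namespace Cfsg.Agent.Lib.InvertedBound

universe u

open QuotientGroup in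
theorem sq_le_fixed_cosets : ∀ (k : ℕ) (P : Type u) [Group P] [Finite P], Nat.card P = k →
    IsPGroup 2 P → ∀ (α σ : MulAut P) (n : ℕ), α * α = 1 → Odd n → σ ^ n = 1 →
      α * σ * α = σ⁻¹ →
      Nat.card P * Nat.card {p : P // σ p = p} ≤ Nat.card {p : P // σ (p⁻¹ * α p) = p⁻¹ * α p} ^ 2 := by
  intro k
  induction k using Nat.strong_induction_on with
  | _ k ih =>
  intro P _ _ hk hP α σ n hα hn hσ hασ
  classical
  rcases subsingleton_or_nontrivial P with hs | hs
  · have h1 : Nat.card P = 1 := Nat.card_unique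
    haveI : Nonempty {p : P // σ (p⁻¹ * α p) = p⁻¹ * α p} := ⟨⟨1, Subsingleton.elim _ _⟩⟩
    haveI : Nonempty {p : P // σ p = p} := ⟨⟨1, Subsingleton.elim _ _⟩⟩
    rw [h1, Nat.card_unique, Nat.card_unique]; norm_num
  have hαα : ∀ p, α (α p) = p := fun p => DFunLike.congr_fun hα p
  have hσα : ∀ p, σ p = p → σ (α p) = α p := by
    intro p hp
    have h1 : α (σ (α (σ p))) = p := by
      show (α * σ * α) (σ p) = p
      rw [hασ]; simp
    rw [hp] at h1
    simpa [hαα] using congrArg α h1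
  have hiter : ∀ (j : ℕ) (p a : P), σ a = a → σ p = p * a → (σ ^ j) p = p * a ^ j := by
    intro j
    induction j with
    | zero => intro p a _ _; simp
    | succ j ihj =>
      intro p a ha hp
      rw [pow_succ', MulAut.mul_apply, ihj p a ha hp, map_mul, map_pow, ha, hp, pow_succ', mul_assoc]
  -- a central elementary invariant subgroup
  let A0 : Subgroup P :=
    { carrier := {a | a ∈ Subgroup.center P ∧ a ^ 2 = 1}
      one_mem' := ⟨one_mem _, one_pow 2⟩
      mul_mem' := fun {a b} ha hb => ⟨mul_mem ha.1 hb.1, by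
        rw [(show Commute a b from (Subgroup.mem_center_iff.mp ha.1 b).symm).mul_pow, ha.2, hb.2, one_mul]⟩
      inv_mem' := fun {a} ha => ⟨inv_mem ha.1, by rw [inv_pow, ha.2, inv_one]⟩ }
  have hA0inv : ∀ f : MulAut P, ∀ a ∈ A0, f a ∈ A0 := fun f a ha =>
    ⟨(Subgroup.characteristic_iff_map_le.mp inferInstance f) ⟨a, ha.1, rfl⟩,
      by rw [← map_pow, ha.2, map_one]⟩
  obtain ⟨z, hz0, hz1⟩ : ∃ z ∈ A0, z ≠ 1 := by
    haveI : Nontrivial (Subgroup.center P) := hP.center_nontrivial
    haveI : Fact (Nat.Prime 2) := ⟨Nat.prime_two⟩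
    obtain ⟨r, hr, hr0⟩ := (hP.to_subgroup (Subgroup.center P)).nontrivial_iff_card.mp inferInstance
    obtain ⟨x, hx⟩ := exists_prime_orderOf_dvd_card' (G := Subgroup.center P) 2
      (hr0 ▸ dvd_pow_self 2 hr.ne')
    refine ⟨x, ⟨x.2, ?_⟩, fun h => ?_⟩
    · rw [← orderOf_dvd_iff_pow_eq_one, Subgroup.orderOf_coe, hx]
    · rw [← Subgroup.orderOf_coe, h, orderOf_one] at hx; omega
  obtain ⟨A, hAA0, hAne, hAα, hAσ, hdich⟩ : ∃ A : Subgroup P, A ≤ A0 ∧ A ≠ ⊥ ∧ (∀ a ∈ A, α a ∈ A) ∧
      (∀ a ∈ A, σ a ∈ A) ∧ ((∀ a ∈ A, σ a = a) ∨ ∀ a ∈ A, σ a = a → a = 1) := by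
    by_cases hfree : ∀ a ∈ A0, σ a = a → a = 1
    · exact ⟨A0, le_rfl, fun h => hz1 (Subgroup.mem_bot.mp (h ▸ hz0)), hA0inv α, hA0inv σ, Or.inr hfree⟩
    · push Not at hfree
      obtain ⟨a, ha, haσ, ha1⟩ := hfree
      refine ⟨A0 ⊓ (MonoidHom.eqLocus σ.toMonoidHom (MonoidHom.id P)), inf_le_left,
        fun h => ha1 (Subgroup.mem_bot.mp (h ▸ ⟨ha, haσ⟩)), fun b hb => ⟨hA0inv α b hb.1, hσα b hb.2⟩,
        fun b hb => ⟨hA0inv σ b hb.1, ?_⟩, Or.inl fun b hb => hb.2⟩
      show σ (σ b) = σ b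
      rw [show σ b = b from hb.2, show σ b = b from hb.2]
  have hAc : ∀ a ∈ A, ∀ x : P, x * a = a * x := fun a ha x =>
    Subgroup.mem_center_iff.mp (hAA0 ha).1 x
  have hA2 : ∀ a ∈ A, a * a = 1 := fun a ha => by rw [← sq]; exact (hAA0 ha).2
  haveI hAn : A.Normal := ⟨fun a ha g => by rw [hAc a ha g, mul_inv_cancel_right]; exact ha⟩
  have hmap : ∀ f : MulAut P, (∀ a ∈ A, f a ∈ A) → A.map f.toMonoidHom = A := fun f hf =>
    Subgroup.eq_of_le_of_card_ge (by rintro _ ⟨a, ha, rfl⟩; exact hf a ha)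
      (Subgroup.card_map_of_injective f.injective).ge
  let α' : MulAut (P ⧸ A) := QuotientGroup.congr A A α (hmap α hAα)
  let σ' : MulAut (P ⧸ A) := QuotientGroup.congr A A σ (hmap σ hAσ)
  have hα' : ∀ p : P, α' (p : P ⧸ A) = (α p : P ⧸ A) := fun p => rfl
  have hσ' : ∀ p : P, σ' (p : P ⧸ A) = (σ p : P ⧸ A) := fun p => rfl
  have hσj : ∀ (j : ℕ) (p : P), (σ' ^ j) (p : P ⧸ A) = ((σ ^ j) p : P ⧸ A) := by
    intro j
    induction j with
    | zero => intro p; rfl
    | succ j ihj => intro p; rw [pow_succ', MulAut.mul_apply, ihj, hσ', pow_succ', MulAut.mul_apply]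
  have hcard : Nat.card P = Nat.card (P ⧸ A) * Nat.card A := Subgroup.card_eq_card_quotient_mul_card_subgroup A
  have hlt : Nat.card (P ⧸ A) < k := by
    rw [← hk, hcard]
    exact lt_mul_of_one_lt_right Nat.card_pos (A.one_lt_card_iff_ne_bot.mpr hAne)
  have hIH := ih _ hlt (P ⧸ A) rfl (hP.to_quotient A) α' σ' n
    (MulEquiv.ext fun q => QuotientGroup.induction_on q fun p => by
      rw [MulAut.mul_apply, hα', hα', hαα]; rfl)
    hn
    (MulEquiv.ext fun q => QuotientGroup.induction_on q fun p => by rw [hσj, hσ]; rfl)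
    (MulEquiv.ext fun q => QuotientGroup.induction_on q fun p => by
      rw [MulAut.mul_apply, MulAut.mul_apply, hα', hσ', hα']
      have h1 : σ (α (σ (α p))) = p := by
        have h2 : α (σ (α p)) = σ⁻¹ p := DFunLike.congr_fun hασ p
        rw [h2]; simp
      apply σ'.injective
      rw [hσ', h1, MulAut.apply_inv_self])
  set F := Nat.card {p : P // σ (p⁻¹ * α p) = p⁻¹ * α p}
  set Fb := Nat.card {q : P ⧸ A // σ' (q⁻¹ * α' q) = q⁻¹ * α' q}
  set Cb := Nat.card {q : P ⧸ A // σ' q = q}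
  set C := Nat.card {p : P // σ p = p}
  -- fixed points of `σ` lift
  rcases hdich with hfix | hfree
  · have hlift : ∀ p : P, σ' (p : P ⧸ A) = p → σ p = p := by
      intro p hp
      have ha : p⁻¹ * σ p ∈ A := QuotientGroup.eq.mp (by rw [← hσ', hp])
      have h1 := hiter n p _ (hfix _ ha) (mul_inv_cancel_left p (σ p)).symm
      rw [hσ, MulAut.one_apply, left_eq_mul] at h1
      have h2 : (p⁻¹ * σ p) ^ 2 = 1 := (hAA0 ha).2
      obtain ⟨r, hr⟩ := hn
      rw [hr, pow_succ, pow_mul, h2, one_pow, one_mul] at h1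
      exact (inv_mul_eq_one.mp h1).symm
    have hC : C = Cb * Nat.card A := by
      rw [← Nat.card_prod]
      refine Nat.card_congr ((Equiv.ofBijective
        (fun x : {q : P ⧸ A // σ' q = q} × A => (⟨x.1.1.out * x.2, by
          rw [map_mul, hfix _ x.2.2, hlift _ (by rw [QuotientGroup.out_eq']; exact x.1.2)]⟩ :
            {p : P // σ p = p})) ⟨?_, ?_⟩).symm)
      · rintro ⟨q, a⟩ ⟨q', a'⟩ h
        have h' : q.1.out * (a : P) = q'.1.out * a' := congrArg Subtype.val h
        have hq : q = q' := Subtype.ext (by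
          have := congrArg (QuotientGroup.mk (s := A)) h'
          simpa [QuotientGroup.mk_mul_of_mem, a.2, a'.2] using this)
        subst hq
        exact Prod.ext rfl (Subtype.ext (mul_left_cancel h'))
      · rintro ⟨p, hp⟩
        refine ⟨(⟨(p : P ⧸ A), by rw [hσ', hp]⟩, ⟨(p : P ⧸ A).out⁻¹ * p,
          QuotientGroup.eq.mp (QuotientGroup.out_eq' _)⟩), ?_⟩
        exact Subtype.ext (mul_inv_cancel_left _ p)
    have hF : Fb * Nat.card A ≤ F := by
      rw [← Nat.card_prod]
      refine Nat.card_le_card_of_injective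
        (fun x : {q : P ⧸ A // σ' (q⁻¹ * α' q) = q⁻¹ * α' q} × A =>
          (⟨x.1.1.out * x.2, hlift _ ?_⟩ : {p : P // σ (p⁻¹ * α p) = p⁻¹ * α p})) ?_
      · have h := x.1.2
        simp only [QuotientGroup.mk_mul, QuotientGroup.mk_inv, ← hα', QuotientGroup.out_eq',
          (QuotientGroup.eq_one_iff (x.2 : P)).mpr x.2.2, mul_one]
        exact h
      · rintro ⟨q, a⟩ ⟨q', a'⟩ h
        have h' : q.1.out * (a : P) = q'.1.out * a' := congrArg Subtype.val h
        have hq : q = q' := Subtype.ext (by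
          have := congrArg (QuotientGroup.mk (s := A)) h'
          simpa [QuotientGroup.mk_mul_of_mem, a.2, a'.2] using this)
        subst hq
        exact Prod.ext rfl (Subtype.ext (mul_left_cancel h'))
    calc Nat.card P * C = Nat.card (P ⧸ A) * Cb * Nat.card A ^ 2 := by rw [hcard, hC]; ring
      _ ≤ Fb ^ 2 * Nat.card A ^ 2 := Nat.mul_le_mul_right _ hIH
      _ = (Fb * Nat.card A) ^ 2 := by ring
      _ ≤ F ^ 2 := Nat.pow_le_pow_left hF 2
  · -- the free case
    let δ : A →* A :=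
      { toFun := fun b => ⟨(b : P)⁻¹ * σ b, mul_mem (inv_mem b.2) (hAσ _ b.2)⟩
        map_one' := Subtype.ext (by simp)
        map_mul' := fun a b => Subtype.ext (by
          show ((a : P) * b)⁻¹ * σ (a * b) = (a : P)⁻¹ * σ a * ((b : P)⁻¹ * σ b)
          rw [mul_inv_rev, map_mul, hAc _ (inv_mem a.2) ((b : P)⁻¹)]
          simp only [mul_assoc]
          rw [← mul_assoc ((b : P)⁻¹) (σ a), hAc _ (hAσ _ a.2) ((b : P)⁻¹), mul_assoc]) }
    have hδ : Function.Bijective δ := Finite.injective_iff_bijective.mp (by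
      rw [injective_iff_map_eq_one]
      intro b hb
      have hb' : (b : P)⁻¹ * σ b = 1 := congrArg Subtype.val hb
      exact Subtype.ext (hfree b b.2 (inv_mul_eq_one.mp hb').symm))
    have hlift : ∀ p : P, σ' (p : P ⧸ A) = p → ∃ a ∈ A, σ (p * a) = p * a := by
      intro p hp
      have ha : p⁻¹ * σ p ∈ A := QuotientGroup.eq.mp (by rw [← hσ', hp])
      obtain ⟨b, hb⟩ := hδ.2 ⟨_, ha⟩
      have hb' : (b : P)⁻¹ * σ b = p⁻¹ * σ p := congrArg Subtype.val hb
      refine ⟨(b : P)⁻¹, inv_mem b.2, ?_⟩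
      rw [map_mul, map_inv, ← mul_inv_cancel_left p (σ p), ← hb', mul_assoc]
      congr 1
      exact mul_inv_cancel_right _ _
    have hC : C ≤ Cb := by
      refine Nat.card_le_card_of_injective
        (fun x : {p : P // σ p = p} => (⟨(x.1 : P ⧸ A), by rw [hσ', x.2]⟩ : {q : P ⧸ A // σ' q = q})) ?_
      rintro ⟨x, hx⟩ ⟨y, hy⟩ h
      have h' : x⁻¹ * y ∈ A := QuotientGroup.eq.mp (congrArg Subtype.val h)
      exact Subtype.ext (inv_mul_eq_one.mp (hfree _ h' (by rw [map_mul, map_inv, hx, hy])))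
    let θ : A →* A :=
      { toFun := fun b => ⟨(b : P) * α b, mul_mem b.2 (hAα _ b.2)⟩
        map_one' := Subtype.ext (by simp)
        map_mul' := fun a b => Subtype.ext (by
          show ((a : P) * b) * α (a * b) = (a : P) * α a * (b * α b)
          rw [map_mul]
          simp only [mul_assoc]
          rw [← mul_assoc (b : P) (α a), hAc _ (hAα _ a.2) (b : P), mul_assoc]) }
    have hker : ∀ b : A, b ∈ θ.ker ↔ α b = b := by
      intro b
      rw [MonoidHom.mem_ker, Subtype.ext_iff]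
      show (b : P) * α b = 1 ↔ _
      constructor
      · intro h; exact (mul_left_cancel (a := (b : P)) (by rw [h, hA2 _ b.2]))
      · intro h; rw [h]; exact hA2 _ b.2
    -- `|C_A(α)|² ≤ |A|`
    have hroot : Nat.card θ.ker * Nat.card θ.ker ≤ Nat.card A := by
      rw [← Nat.card_prod]
      refine Nat.card_le_card_of_injective
        (fun x : θ.ker × θ.ker => (⟨(x.1.1 : P) * σ x.2.1, mul_mem x.1.1.2 (hAσ _ x.2.1.2)⟩ : A)) ?_
      have key : ∀ a b : P, a ∈ A → α a = a → α b = b → σ a = b → a = 1 := by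
        intro a b ha haa hbb hab
        refine hfree a ha ?_
        have h2 : α (σ (α a)) = σ⁻¹ a := DFunLike.congr_fun hασ a
        rw [haa, hab, hbb, ← hab] at h2
        have h3 : σ (σ a) = a := by rw [h2]; simp
        have h4 : ∀ r : ℕ, (σ ^ (2 * r)) a = a := by
          intro r
          induction r with
          | zero => rfl
          | succ r ihr => rw [Nat.mul_succ, pow_succ, pow_succ, MulAut.mul_apply, MulAut.mul_apply, h3, ihr]
        obtain ⟨r, hr⟩ := hn
        have h5 : (σ ^ n) (σ a) = σ a := by rw [hσ]; rfl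
        rw [hr, ← MulAut.mul_apply, ← pow_succ, show 2 * r + 1 + 1 = 2 * (r + 1) by ring, h4] at h5
        exact h5.symm
      rintro ⟨x, y⟩ ⟨x', y'⟩ h
      have h' : (x.1 : P) * σ y.1 = (x'.1 : P) * σ y'.1 := congrArg Subtype.val h
      have hmem : (y.1 : P) * (y'.1 : P)⁻¹ ∈ A := mul_mem y.1.2 (inv_mem y'.1.2)
      have h1 : σ ((y.1 : P) * (y'.1 : P)⁻¹) = (x.1 : P)⁻¹ * x'.1 := by
        rw [map_mul, map_inv, eq_inv_mul_iff_mul_eq, ← mul_assoc, h', mul_inv_cancel_right]
      have hy : (y.1 : P) = y'.1 := mul_inv_eq_one.mp (key _ _ hmem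
        (by rw [map_mul, map_inv, (hker _).mp y.2, (hker _).mp y'.2])
        (by rw [map_mul, map_inv, (hker _).mp x.2, (hker _).mp x'.2]) h1)
      rw [hy] at h'
      exact Prod.ext (Subtype.ext (Subtype.ext (mul_right_cancel h'))) (Subtype.ext (Subtype.ext hy))
    have hrange : ∀ a ∈ A, α a = a → ∃ b ∈ A, b * α b = a := by
      intro a ha haa
      have h1 : θ.range ≤ θ.ker := by
        rintro _ ⟨b, rfl⟩
        rw [hker]
        show α ((b : P) * α b) = (b : P) * α b
        rw [map_mul, hαα, hAc _ b.2 (α b)]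
      have h2 : θ.range = θ.ker := Subgroup.eq_of_le_of_card_ge h1 (by
        have h3 : Nat.card A = Nat.card θ.range * Nat.card θ.ker := by
          rw [← Subgroup.index_ker, mul_comm, Subgroup.card_mul_index]
        rw [h3] at hroot
        exact Nat.le_of_mul_le_mul_right hroot Nat.card_pos)
      obtain ⟨b, hb⟩ : (⟨a, ha⟩ : A) ∈ θ.range := by rw [h2, hker]; exact haa
      exact ⟨b, b.2, congrArg Subtype.val hb⟩
    have hgood : ∀ q : P ⧸ A, σ' (q⁻¹ * α' q) = q⁻¹ * α' q →
        ∃ p : P, (p : P ⧸ A) = q ∧ σ (p⁻¹ * α p) = p⁻¹ * α p := by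
      intro q
      induction q using QuotientGroup.induction_on with
      | _ p =>
      intro hp
      rw [hα', ← QuotientGroup.mk_inv, ← QuotientGroup.mk_mul] at hp
      obtain ⟨a, ha, hca⟩ := hlift _ hp
      set c := p⁻¹ * α p * a with hc
      have hαp : α p = p * c * a := by rw [hc]; simp [mul_assoc, hA2 a ha]
      have h1 : c * α c * (a * α a) = 1 := by
        have := hαα p
        rw [hαp, map_mul, map_mul, hαp] at this
        have h2 : p * (c * α c * (a * α a)) = p * 1 := by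
          calc p * (c * α c * (a * α a)) = p * c * (α c * a) * α a := by simp only [mul_assoc]
            _ = p * c * (a * α c) * α a := by rw [hAc a ha (α c)]
            _ = p * 1 := by rw [mul_one]; simpa [mul_assoc] using this
        exact mul_left_cancel h2
      have h3 : c * α c = 1 := hfree _ (by
        rw [eq_inv_of_mul_eq_one_left h1]; exact inv_mem (mul_mem ha (hAα a ha)))
        (by rw [map_mul, hca, hσα c hca])
      rw [h3, one_mul] at h1
      have haa : α a = a := by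
        rw [eq_inv_of_mul_eq_one_right h1]; exact inv_eq_of_mul_eq_one_right (hA2 a ha)
      obtain ⟨b, hb, hba⟩ := hrange a ha haa
      refine ⟨p * b, QuotientGroup.mk_mul_of_mem p hb, ?_⟩
      have : (p * b)⁻¹ * α (p * b) = c := by
        have h4 : a * α b = b := by rw [← hba, mul_assoc, hA2 (α b) (hAα b hb), mul_one]
        rw [map_mul, hαp]
        calc (p * b)⁻¹ * (p * c * a * α b) = b⁻¹ * (c * (a * α b)) := by group
          _ = c := by rw [h4, hAc b hb c, inv_mul_cancel_left]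
      rw [this, hca]
    choose g hg1 hg2 using hgood
    have hF : Fb * Nat.card θ.ker ≤ F := by
      rw [← Nat.card_prod]
      refine Nat.card_le_card_of_injective
        (fun x : {q : P ⧸ A // σ' (q⁻¹ * α' q) = q⁻¹ * α' q} × θ.ker =>
          (⟨g x.1.1 x.1.2 * (x.2.1 : P), ?_⟩ : {p : P // σ (p⁻¹ * α p) = p⁻¹ * α p})) ?_
      · have e : (g x.1.1 x.1.2 * (x.2.1 : P))⁻¹ * α (g x.1.1 x.1.2 * (x.2.1 : P))
            = (g x.1.1 x.1.2)⁻¹ * α (g x.1.1 x.1.2) := by
          rw [map_mul, (hker _).mp x.2.2, mul_inv_rev, mul_assoc, ← hAc _ (inv_mem x.2.1.2),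
            ← mul_assoc ((g x.1.1 x.1.2)⁻¹), mul_inv_cancel_right]
        rw [e]; exact hg2 _ _
      · rintro ⟨q, a⟩ ⟨q', a'⟩ h
        have h' : g q.1 q.2 * (a.1 : P) = g q'.1 q'.2 * (a'.1 : P) := congrArg Subtype.val h
        have hq : q = q' := Subtype.ext (by
          have := congrArg (QuotientGroup.mk (s := A)) h'
          rwa [QuotientGroup.mk_mul_of_mem _ a.1.2, QuotientGroup.mk_mul_of_mem _ a'.1.2, hg1, hg1] at this)
        subst hq
        exact Prod.ext rfl (Subtype.ext (Subtype.ext (mul_left_cancel h')))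
    have hA : Nat.card A ≤ Nat.card θ.ker * Nat.card θ.ker := by
      have h1 : θ.range ≤ θ.ker := by
        rintro _ ⟨b, rfl⟩
        rw [hker]
        show α ((b : P) * α b) = (b : P) * α b
        rw [map_mul, hαα, hAc _ b.2 (α b)]
      calc Nat.card A = Nat.card θ.range * Nat.card θ.ker := by
            rw [← Subgroup.index_ker, mul_comm, Subgroup.card_mul_index]
        _ ≤ _ := Nat.mul_le_mul_right _ (Subgroup.card_le_of_le h1)
    calc Nat.card P * C ≤ Nat.card (P ⧸ A) * Nat.card A * Cb := by rw [hcard]; exact Nat.mul_le_mul_left _ hC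
      _ = Nat.card (P ⧸ A) * Cb * Nat.card A := by ring
      _ ≤ Fb ^ 2 * (Nat.card θ.ker * Nat.card θ.ker) := Nat.mul_le_mul hIH hA
      _ = (Fb * Nat.card θ.ker) ^ 2 := by ring
      _ ≤ F ^ 2 := Nat.pow_le_pow_left hF 2

end Cfsg.Agent.Lib.InvertedBound
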